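import Mathlib

/-!
# Towers of `A`-invariant subgroups

Everything lives in a finite group `G`; `A` is a subgroup of `G` acting by conjugation.  A tower of height `n` is a
sequence `P 0, …, P (n - 1)` (bottom first) of `A`-invariant subgroups, `P i` a `p i`-group, `p (i + 1) ≠ p i`, the
upper ones normalising the lower ones, with `P i ≰ K P i`, where `K P 0 = 1` and `K P (i + 1)` is the set of elements
of `P (i + 1)` acting trivially on `P i` modulo `K P i`.
-/

set_option autoImplicit false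

open Subgroup

namespace Cfsg.Agent.H987.Tower

variable {G : Type*} [Group G]

/-- the elements of `X` acting trivially on `Y` modulo `T` -/
def kerOn (X Y T : Subgroup G) : Subgroup G where
  carrier := {x | x ∈ X ∧ x ∈ normalizer (Y : Set G) ∧ x ∈ normalizer (T : Set G) ∧
    ∀ y ∈ Y, x * y * x⁻¹ * y⁻¹ ∈ T}
  one_mem' := ⟨one_mem _, one_mem _, one_mem _, fun y _ => by simp [one_mem]⟩
  mul_mem' := by
    rintro a b ⟨ha1, ha2, ha3, ha4⟩ ⟨hb1, hb2, hb3, hb4⟩
    refine ⟨mul_mem ha1 hb1, mul_mem ha2 hb2, mul_mem ha3 hb3, fun y hy => ?_⟩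
    have h1 := hb4 y hy
    have h2 := (mem_normalizer_iff.mp ha3 _).mp h1
    have h3 := mul_mem h2 (ha4 y hy)
    have e : a * (b * y * b⁻¹ * y⁻¹) * a⁻¹ * (a * y * a⁻¹ * y⁻¹) = a * b * y * (a * b)⁻¹ * y⁻¹ := by
      group
    rwa [e] at h3
  inv_mem' := by
    rintro a ⟨ha1, ha2, ha3, ha4⟩
    refine ⟨inv_mem ha1, inv_mem ha2, inv_mem ha3, fun y hy => ?_⟩
    have h1 := inv_mem (ha4 y hy)
    have h2 := (mem_normalizer_iff.mp (inv_mem ha3) _).mp h1
    have e : a⁻¹ * (a * y * a⁻¹ * y⁻¹)⁻¹ * a⁻¹⁻¹ = a⁻¹ * y * a⁻¹⁻¹ * y⁻¹ := by group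
    rwa [e] at h2

/-- the kernels of a tower -/
def K (P : ℕ → Subgroup G) : ℕ → Subgroup G
  | 0 => ⊥
  | i + 1 => kerOn (P (i + 1)) (P i) (K P i)

/-- an `A`-invariant tower of height `n` -/
structure IsTower (A : Subgroup G) (P : ℕ → Subgroup G) (p : ℕ → ℕ) (n : ℕ) : Prop where
  prime : ∀ i < n, (p i).Prime
  pgroup : ∀ i < n, IsPGroup (p i) (P i)
  ne : ∀ i, i + 1 < n → p (i + 1) ≠ p i
  norm : ∀ i j, i < j → j < n → P j ≤ normalizer (P i : Set G)
  inv : ∀ i < n, A ≤ normalizer (P i : Set G)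
  nontriv : ∀ i < n, ¬ P i ≤ K P i

end Cfsg.Agent.H987.Tower
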